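import Cfsg.Agent.Lib.PrimeBlock.Tools
import Cfsg.Agent.Lib.PrimeBlock.ThreePrimes
import Cfsg.Agent.Lib.SmallSimple.Centralize

/-!
# The Sylow subgroups of orders 19 and 17 of a group of the order of the third Janko group

The hypotheses are the order, the order of the involution centralisers and the absence of elements
of order 16.
-/

set_option autoImplicit false
set_option linter.style.haveILetI false
set_option linter.unusedSectionVars false
set_option maxRecDepth 20000

namespace Cfsg.Agent.Lib.J3Loc.Sylow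

open Subgroup
open Cfsg.Agent.Characters Cfsg.Agent.Blocks Cfsg.Agent.PrimeBlock
open Cfsg.Agent.SmallSimple

universe u

/-- The signed candidates for a non-exceptional degree. -/
def degX : List ℤ :=
  [-2754, -1728, -816, -360, -170, 20, 96, 153, 324, 1920, 3060, 6480]

/-- The signed candidates for an exceptional degree. -/
def degY : List ℤ :=
  [-5184, -2448, -1080, -510, -320, -54, 60, 136, 288, 459, 2720, 5760]

theorem table_nineteen : ∀ d ∈ List.range' 20 7068, d ∣ 50232960 → ¬ 243 ∣ d →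
    (d % 19 = 1 → (d : ℤ) ∈ degX) ∧
    (d % 19 = 18 → -(d : ℤ) ∈ degX) ∧
    (d % 19 = 3 → (d : ℤ) ∈ degY) ∧
    (d % 19 = 16 → -(d : ℤ) ∈ degY) := by
  decide +kernel

theorem table_sum : ∀ a ∈ degX,
    ∀ b ∈ degX,
    1 + (a + b) ∉ degY := by
  decide +kernel

theorem arith_nineteen_aux : ∀ a ∈ Nat.divisors 243, ∀ b ∈ Nat.divisors 85, ∀ e ∈ Nat.divisors 18,
    1 < e → a * b * e ∣ 2643840 → 2643840 / (a * b * e) % 19 = 1 →
    (a * b = 1 ∧ e = 9) ∨ (a * b = 3 ∧ e = 3) ∨ (a * b = 153 ∧ e = 9) ∨ (a * b = 459 ∧ e = 3) := by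
  decide +kernel

theorem arith_seventeen_aux : ∀ a ∈ Nat.divisors 243, ∀ b ∈ Nat.divisors 95, ∀ e ∈ Nat.divisors 16,
    1 < e → a * b * e ∣ 2954880 → 2954880 / (a * b * e) % 17 = 1 →
    (a * b = 1 ∧ e = 8) ∨ (a * b = 9 ∧ e = 16) ∨ (a * b = 19 ∧ e = 4) ∨
      (a * b = 171 ∧ e = 8) ∨ (a * b = 1539 ∧ e = 16) := by
  decide +kernel

theorem odd_part {k m : ℕ} (h : k ∣ 128 * m) (hodd : ¬ 2 ∣ k) : k ∣ m :=
  (show Nat.Coprime k 128 from
    ((Nat.prime_two.coprime_iff_not_dvd.2 hodd).symm.pow_right 7)).dvd_of_dvd_mul_left h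

variable {G : Type u} [Group G] [Finite G]

theorem card_sylow (hcard : Nat.card G = 50232960) {p : ℕ} [Fact p.Prime]
    (hp : p = 19 ∨ p = 17) (P : Sylow p G) : Nat.card (P : Subgroup G) = p := by
  rcases hp with rfl | rfl
  · rw [Basic.card_sylow_eq_pow (a := 1) (m := 2643840) (by rw [hcard]; norm_num) (by norm_num) P, pow_one]
  · rw [Basic.card_sylow_eq_pow (a := 1) (m := 2954880) (by rw [hcard]; norm_num) (by norm_num) P, pow_one]

theorem isCyclic_mulAut {H : Type*} [Group H] [Finite H] {p : ℕ} [Fact p.Prime]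
    (hH : Nat.card H = p) : IsCyclic (MulAut H) := by
  haveI : IsCyclic H := isCyclic_of_prime_card hH
  refine (IsCyclic.mulAutMulEquiv H).isCyclic.2 ?_
  rw [hH]
  infer_instance

theorem not_comm [IsSimpleGroup G] (hcard : Nat.card G = 50232960) : ¬ IsMulCommutative G :=
  Basic.not_comm_of_not_prime (by rw [hcard]; norm_num)

variable [IsSimpleGroup G] (hcard : Nat.card G = 50232960)
  (hcen : ∀ z : G, orderOf z = 2 → Nat.card (centralizer ({z} : Set G)) = 1920)

include hcard hcen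

/-- The orders of the centraliser and of the normaliser, as far as Sylow's theorem tells. -/
theorem shape {p : ℕ} [Fact p.Prime] (hp : p = 19 ∨ p = 17) (P : Sylow p G) :
    ∃ k e n : ℕ, Nat.card (centralizer ((P : Subgroup G) : Set G)) = p * k ∧
      Nat.card (normalizer ((P : Subgroup G) : Set G)) = p * k * e ∧ ¬ 2 ∣ k ∧ e ∣ p - 1 ∧ 1 < e ∧
      p * (k * e * n) = 50232960 ∧ n % p = 1 := by
  have hG := not_comm hcard
  have hP := card_sylow hcard hp P
  obtain ⟨e, he, he1, hN, hdvd⟩ := Centralize.centralizer_data hG P hP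
  obtain ⟨k, hk⟩ := hdvd
  refine ⟨k, e, Nat.card (Sylow p G), hk, by rw [hN, hk], ?_, he, he1, ?_, ?_⟩
  · intro h2
    obtain ⟨⟨z, hz⟩, hzo⟩ := exists_prime_orderOf_dvd_card' (G := centralizer ((P : Subgroup G) : Set G)) 2
      (hk ▸ dvd_mul_of_dvd_right h2 p)
    rw [Subgroup.orderOf_mk] at hzo
    have hle : (P : Subgroup G) ≤ centralizer ({z} : Set G) := fun x hx =>
      mem_centralizer_singleton_iff.2 (mem_centralizer_iff.1 hz x hx)
    have := card_dvd_of_le hle
    rw [hP, hcen z hzo] at this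
    rcases hp with rfl | rfl <;> norm_num at this
  · rw [← hcard, ← Basic.card_normalizer_mul P, hN, hk]
    ring
  · have := card_sylow_modEq_one p G
    rwa [Nat.ModEq, Nat.one_mod_eq_one.2 (Fact.out : p.Prime).ne_one] at this

theorem shape_nineteen (P : Sylow 19 G) [Fact (Nat.Prime 19)] :
    ∃ k e : ℕ, Nat.card (centralizer ((P : Subgroup G) : Set G)) = 19 * k ∧
      Nat.card (normalizer ((P : Subgroup G) : Set G)) = 19 * k * e ∧
      ((k = 1 ∧ e = 9) ∨ (k = 3 ∧ e = 3) ∨ (k = 153 ∧ e = 9) ∨ (k = 459 ∧ e = 3)) := by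
  obtain ⟨k, e, n, hk, hN, hodd, he, he1, heq, hn⟩ := shape hcard hcen (Or.inl rfl) P
  have heq' : k * e * n = 2643840 := by omega
  have hk' : k ∣ 243 * 85 := odd_part ⟨e * n, by rw [← mul_assoc k, heq']⟩ hodd
  obtain ⟨a, b, ha, hb, rfl⟩ := Nat.dvd_mul.1 hk'
  refine ⟨a * b, e, hk, hN, arith_nineteen_aux a (Nat.mem_divisors.2 ⟨ha, by norm_num⟩) b
    (Nat.mem_divisors.2 ⟨hb, by norm_num⟩) e (Nat.mem_divisors.2 ⟨he, by norm_num⟩) he1
    (heq' ▸ dvd_mul_right _ n) ?_⟩
  rw [← heq', Nat.mul_div_cancel_left _ (Nat.pos_of_ne_zero fun h => by rw [h, zero_mul] at heq'; omega)]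
  exact hn

theorem shape_seventeen (P : Sylow 17 G) [Fact (Nat.Prime 17)] :
    ∃ k e : ℕ, Nat.card (centralizer ((P : Subgroup G) : Set G)) = 17 * k ∧
      Nat.card (normalizer ((P : Subgroup G) : Set G)) = 17 * k * e ∧
      ((k = 1 ∧ e = 8) ∨ (k = 9 ∧ e = 16) ∨ (k = 19 ∧ e = 4) ∨ (k = 171 ∧ e = 8) ∨
        (k = 1539 ∧ e = 16)) := by
  obtain ⟨k, e, n, hk, hN, hodd, he, he1, heq, hn⟩ := shape hcard hcen (Or.inr rfl) P
  have heq' : k * e * n = 2954880 := by omega
  have hk' : k ∣ 243 * 95 := odd_part ⟨e * n, by rw [← mul_assoc k, heq']⟩ hodd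
  obtain ⟨a, b, ha, hb, rfl⟩ := Nat.dvd_mul.1 hk'
  refine ⟨a * b, e, hk, hN, arith_seventeen_aux a (Nat.mem_divisors.2 ⟨ha, by norm_num⟩) b
    (Nat.mem_divisors.2 ⟨hb, by norm_num⟩) e (Nat.mem_divisors.2 ⟨he, by norm_num⟩) he1
    (heq' ▸ dvd_mul_right _ n) ?_⟩
  rw [← heq', Nat.mul_div_cancel_left _ (Nat.pos_of_ne_zero fun h => by rw [h, zero_mul] at heq'; omega)]
  exact hn

/-- Sylow subgroups of orders 19 and 17 do not centralise each other. -/
theorem no_pair [Fact (Nat.Prime 19)] [Fact (Nat.Prime 17)] (X : Sylow 19 G) (Y : Sylow 17 G)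
    (hle : (X : Subgroup G) ≤ centralizer ((Y : Subgroup G) : Set G)) : False := by
  set C := centralizer ((Y : Subgroup G) : Set G) with hC
  obtain ⟨k₁, e₁, -, hNX, hcase₁⟩ := shape_nineteen hcard hcen X
  obtain ⟨k₂, e₂, hCY, hNY, hcase₂⟩ := shape_seventeen hcard hcen Y
  have hX := card_sylow hcard (Or.inl rfl) X
  have hY := card_sylow hcard (Or.inr rfl) Y
  set X' : Sylow 19 C := X.subtype hle with hX'
  set M := normalizer ((X' : Subgroup C) : Set C) with hM
  have hYC : (Y : Subgroup G) ≤ C := by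
    haveI : IsCyclic (Y : Subgroup G) := isCyclic_of_prime_card hY
    exact le_centralizer _
  have hYM : (Y : Subgroup G).subgroupOf C ≤ M := fun y hy => mem_normalizer_iff.2 fun x => by
    have hc : (y : G) * (x : G) * (y : G)⁻¹ = x := by
      rw [mem_centralizer_iff.1 x.2 _ (mem_subgroupOf.1 hy), mul_inv_cancel_right]
    have : y * x * y⁻¹ = x := Subtype.ext (by simpa using hc)
    rw [this]
  have h17 : 17 ∣ Nat.card M := by
    have := card_dvd_of_le hYM
    rwa [Nat.card_congr (subgroupOfEquivOfLe hYC).toEquiv, hY] at this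
  have h19 : 19 ∣ Nat.card M := by
    have := card_dvd_of_le (Subgroup.le_normalizer (H := (X' : Subgroup C)))
    rwa [hX', Sylow.coe_subtype, Nat.card_congr (subgroupOfEquivOfLe hle).toEquiv, hX] at this
  have h323 : 17 * 19 ∣ Nat.card M := Nat.Coprime.mul_dvd_of_dvd_of_dvd (by norm_num) h17 h19
  have hprod := Basic.card_normalizer_mul X'
  rw [← hM, hCY] at hprod
  obtain ⟨r, hr⟩ := h323
  rw [hr] at hprod
  set n := Nat.card (Sylow 19 C) with hn
  have hn1 : n % 19 = 1 := by
    have := card_sylow_modEq_one 19 C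
    simpa [Nat.ModEq] using this
  have hnd : n ∣ 81 := by
    rcases hcase₂ with ⟨rfl, -⟩ | ⟨rfl, -⟩ | ⟨rfl, -⟩ | ⟨rfl, -⟩ | ⟨rfl, -⟩
    · exact absurd hprod (by rw [mul_assoc, mul_assoc]; omega)
    · exact absurd hprod (by rw [mul_assoc, mul_assoc]; omega)
    all_goals
      refine (dvd_mul_left n r).trans ?_
      rw [mul_assoc] at hprod
      first
        | (rw [show r * n = 1 by omega]; norm_num)
        | (rw [show r * n = 9 by omega]; norm_num)
        | (rw [show r * n = 81 by omega])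
  have hone : n = 1 := by
    have : ∀ i ∈ Nat.divisors 81, i % 19 = 1 → i = 1 := by decide
    exact this n (Nat.mem_divisors.2 ⟨hnd, by norm_num⟩) hn1
  haveI : Subsingleton (Sylow 19 C) := Finite.card_le_one_iff_subsingleton.1 hone.le
  have hsub : normalizer ((Y : Subgroup G) : Set G) ≤ normalizer ((X : Subgroup G) : Set G) := by
    intro a ha
    refine Sylow.smul_eq_iff_mem_normalizer.1 ?_
    have hle' : ((a • X : Sylow 19 G) : Subgroup G) ≤ C := by
      rintro _ ⟨x, hx, rfl⟩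
      refine mem_centralizer_iff.2 fun y hy => ?_
      have := mem_centralizer_iff.1 (hle hx) _ ((mem_normalizer_iff''.1 ha y).1 hy)
      show y * (a * x * a⁻¹) = a * x * a⁻¹ * y
      calc y * (a * x * a⁻¹) = a * (a⁻¹ * y * a * x) * a⁻¹ := by group
        _ = a * (x * (a⁻¹ * y * a)) * a⁻¹ := by rw [this]
        _ = _ := by group
    refine Sylow.ext (SetLike.ext fun x => ?_)
    have he : ((a • X).subtype hle' : Subgroup C) = (X.subtype hle : Subgroup C) :=
      congrArg (fun S : Sylow 19 C => (S : Subgroup C)) (Subsingleton.elim _ _)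
    rw [Sylow.coe_subtype, Sylow.coe_subtype] at he
    exact ⟨fun hx => mem_subgroupOf.1 (he ▸ (mem_subgroupOf.2 hx : (⟨x, hle' hx⟩ : C) ∈ _)),
      fun hx => mem_subgroupOf.1 (he.symm ▸ (mem_subgroupOf.2 hx : (⟨x, hle hx⟩ : C) ∈ _))⟩
  have hd := card_dvd_of_le hsub
  rw [hNX, hNY] at hd
  have h2 : 2 ∣ 19 * k₁ * e₁ := by
    refine dvd_trans ?_ hd
    rcases hcase₂ with ⟨-, rfl⟩ | ⟨-, rfl⟩ | ⟨-, rfl⟩ | ⟨-, rfl⟩ | ⟨-, rfl⟩ <;>
      exact dvd_mul_of_dvd_right (by norm_num) _
  rcases hcase₁ with ⟨rfl, rfl⟩ | ⟨rfl, rfl⟩ | ⟨rfl, rfl⟩ | ⟨rfl, rfl⟩ <;> omega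

/-- A Sylow subgroup of order 19 centralised by a subgroup of order 3 leaves no room for the
degrees in its principal block. -/
theorem not_three [Fact (Nat.Prime 19)] (X : Sylow 19 G)
    (hc : Nat.card (centralizer ((X : Subgroup G) : Set G)) = 19 * 3)
    (hN : Nat.card (normalizer ((X : Subgroup G) : Set G)) = 19 * 3 * 3) : False := by
  classical
  have hG := not_comm hcard
  obtain ⟨D, ht, hts⟩ := exists_pblock' hG (by norm_num) X (card_sylow hcard (Or.inl rfl) X)
  have he : D.e = 3 := by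
    have := relIndex_mul_relIndex ⊥ (centralizer ((X : Subgroup G) : Set G))
      (normalizer ((X : Subgroup G) : Set G)) bot_le (centralizer_le_normalizer _)
    rw [relIndex_bot_left, relIndex_bot_left, D.he, hc, hN] at this
    omega
  have hfac : (Nat.card G).factorization 3 = 5 := by
    rw [hcard]
    have h1 := (Nat.prime_three.pow_dvd_iff_le_factorization (n := 50232960) (k := 5) (by norm_num)).1
      (by norm_num)
    have h2 : ¬ 6 ≤ (50232960 : ℕ).factorization 3 := fun h =>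
      absurd ((Nat.prime_three.pow_dvd_iff_le_factorization (by norm_num)).2 h) (by norm_num)
    omega
  have hdeg : ∀ χ ∈ Cfsg.principalBlock D.M G, χ ≠ trivIrr G →
      deg χ < 7088 ∧ deg χ ∣ 50232960 ∧ ¬ 243 ∣ deg χ ∧ 20 ≤ deg χ := by
    intro χ hχ hne
    refine ⟨?_, hcard ▸ char_degree_dvd_card χ, ?_, ?_⟩
    · have := deg_sq_lt hne
      rw [hcard] at this
      by_contra h
      push Not at h
      have := Nat.mul_le_mul h h
      omega
    · have := D.not_full Nat.prime_three (by norm_num) (hc ▸ dvd_mul_left 3 19) hχ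
      rwa [hfac] at this
    · by_contra h
      have h19 := D.not_dvd_deg hχ
      have hlt : deg χ < 19 := by
        rcases Nat.lt_or_ge (deg χ) 19 with h' | h'
        · exact h'
        · exact absurd (show 19 ∣ deg χ from ⟨1, by omega⟩) h19
      have := D.card_centralizer hG hχ hne hlt
      omega
  obtain ⟨L, f, hL, hmem, ⟨θ, hθ, hθf, hθne⟩, hrel⟩ := D.exists_signed hG ht hts
  obtain ⟨a, b, rfl⟩ : ∃ a b, L = [a, b] := List.length_eq_two.1 (by omega)
  have hX : ∀ z ∈ [a, b], z ∈ degX := by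
    intro z hz
    obtain ⟨χ, hχ, hne, rfl⟩ := hmem z hz
    obtain ⟨h1, h2, h3, h4⟩ := hdeg χ ((D.mem_block χ).2 (Or.inl hχ)) hne
    have hmod := D.deg_X χ hχ
    obtain ⟨t1, t2, -, -⟩ := table_nineteen _ (List.mem_range'_1.2 ⟨h4, by omega⟩) h2 h3
    rcases D.sgn_eq χ hχ with e | e <;> rw [e] at hmod ⊢ <;> unfold Int.ModEq at hmod
    · rw [one_mul]; exact t1 (by omega)
    · rw [neg_one_mul]; exact t2 (by omega)
  have hY : D.ε * (f : ℤ) ∈ degY := by
    obtain ⟨h1, h2, h3, h4⟩ := hdeg θ ((D.mem_block θ).2 (Or.inr hθ)) hθne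
    have hmod := D.deg_Y θ hθ
    obtain ⟨-, -, t3, t4⟩ := table_nineteen _ (List.mem_range'_1.2 ⟨h4, by omega⟩) h2 h3
    rw [he] at hmod
    rw [← hθf]
    rcases D.ε_eq with e | e <;> rw [e] at hmod ⊢ <;> unfold Int.ModEq at hmod
    · rw [one_mul]; exact t3 (by omega)
    · rw [neg_one_mul]; exact t4 (by omega)
  refine table_sum a (hX a (by simp)) b (hX b (by simp)) ?_
  rw [hrel] at hY
  simpa using hY

theorem centralizer_nineteen [Fact (Nat.Prime 19)] (X : Sylow 19 G) :
    Nat.card (centralizer ((X : Subgroup G) : Set G)) = 19 ∧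
      Nat.card (normalizer ((X : Subgroup G) : Set G)) = 19 * 9 := by
  haveI : Fact (Nat.Prime 17) := ⟨by norm_num⟩
  obtain ⟨k, e, hk, hN, hcase⟩ := shape_nineteen hcard hcen X
  have h17 : ¬ 17 ∣ k := by
    intro h
    obtain ⟨⟨y, hy⟩, hyo⟩ := exists_prime_orderOf_dvd_card' (G := centralizer ((X : Subgroup G) : Set G)) 17
      (hk ▸ dvd_mul_of_dvd_right h 19)
    rw [Subgroup.orderOf_mk] at hyo
    obtain ⟨Y, hY⟩ := (IsPGroup.of_card (p := 17) (n := 1)
      (by rw [Nat.card_zpowers, hyo, pow_one]) : IsPGroup 17 (zpowers y)).exists_le_sylow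
    have hYe : zpowers y = (Y : Subgroup G) := eq_of_le_of_card_ge hY (by
      rw [Nat.card_zpowers, hyo, card_sylow hcard (Or.inr rfl) Y])
    refine no_pair hcard hcen X Y fun x hx => ?_
    rw [← hYe, zpowers_eq_closure, centralizer_closure, mem_centralizer_singleton_iff]
    exact mem_centralizer_iff.1 hy x hx
  rcases hcase with ⟨rfl, rfl⟩ | ⟨rfl, rfl⟩ | ⟨rfl, rfl⟩ | ⟨rfl, rfl⟩
  · exact ⟨by omega, by omega⟩
  · exact (not_three hcard hcen X hk hN).elim
  · exact absurd (by norm_num) h17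
  · exact absurd (by norm_num) h17

theorem centralizer_seventeen [Fact (Nat.Prime 17)] (hexp : ∀ g : G, orderOf g ≠ 16)
    (Y : Sylow 17 G) : Nat.card (centralizer ((Y : Subgroup G) : Set G)) = 17 ∧
      Nat.card (normalizer ((Y : Subgroup G) : Set G)) = 17 * 8 := by
  haveI : Fact (Nat.Prime 19) := ⟨by norm_num⟩
  obtain ⟨k, e, hk, hN, hcase⟩ := shape_seventeen hcard hcen Y
  have h19 : ¬ 19 ∣ k := by
    intro h
    obtain ⟨⟨x, hx⟩, hxo⟩ := exists_prime_orderOf_dvd_card' (G := centralizer ((Y : Subgroup G) : Set G)) 19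
      (hk ▸ dvd_mul_of_dvd_right h 17)
    rw [Subgroup.orderOf_mk] at hxo
    obtain ⟨X, hX⟩ := (IsPGroup.of_card (p := 19) (n := 1)
      (by rw [Nat.card_zpowers, hxo, pow_one]) : IsPGroup 19 (zpowers x)).exists_le_sylow
    have hXe : zpowers x = (X : Subgroup G) := eq_of_le_of_card_ge hX (by
      rw [Nat.card_zpowers, hxo, card_sylow hcard (Or.inl rfl) X])
    exact no_pair hcard hcen X Y (hXe ▸ zpowers_le.2 hx)
  rcases hcase with ⟨rfl, rfl⟩ | ⟨rfl, rfl⟩ | ⟨rfl, rfl⟩ | ⟨rfl, rfl⟩ | ⟨rfl, rfl⟩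
  · exact ⟨by omega, by omega⟩
  · exfalso
    haveI : IsCyclic (Y : Subgroup G) := isCyclic_of_prime_card (card_sylow hcard (Or.inr rfl) Y)
    have hr : Nat.card ((Y : Subgroup G).normalizerMonoidHom).range = 16 := by
      rw [← index_ker, normalizerMonoidHom_ker]
      have := relIndex_mul_relIndex ⊥ (centralizer ((Y : Subgroup G) : Set G))
        (normalizer ((Y : Subgroup G) : Set G)) bot_le (centralizer_le_normalizer _)
      rw [relIndex_bot_left, relIndex_bot_left, hk, hN] at this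
      rw [← relIndex]
      omega
    haveI : IsCyclic (MulAut (Y : Subgroup G)) := isCyclic_mulAut (card_sylow hcard (Or.inr rfl) Y)
    obtain ⟨r, ha⟩ := IsCyclic.exists_ofOrder_eq_natCard
      (α := ((Y : Subgroup G).normalizerMonoidHom).range)
    rw [← Subgroup.orderOf_coe, hr] at ha
    obtain ⟨a, hra⟩ := r.2
    rw [← hra] at ha
    have hd : 16 ∣ orderOf (a : G) := by
      rw [Subgroup.orderOf_coe, ← ha]
      exact orderOf_map_dvd _ a
    exact hexp _ (orderOf_pow_orderOf_div (orderOf_pos (a : G)).ne' hd)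
  all_goals exact absurd (by norm_num) h19

/-- A Sylow subgroup of prime order that is its own centraliser has a cyclic normaliser quotient. -/
theorem quotient_data {p : ℕ} [Fact p.Prime] (P : Sylow p G)
    (hP : Nat.card (P : Subgroup G) = p) {e : ℕ}
    (hC : Nat.card (centralizer ((P : Subgroup G) : Set G)) = p)
    (hN : Nat.card (normalizer ((P : Subgroup G) : Set G)) = p * e) :
    centralizer ((P : Subgroup G) : Set G) = P ∧
    ∃ h : ((P : Subgroup G).subgroupOf (normalizer ((P : Subgroup G) : Set G))).Normal,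
      IsCyclic (↥(normalizer ((P : Subgroup G) : Set G)) ⧸ (P : Subgroup G).subgroupOf _) ∧
      Nat.card (↥(normalizer ((P : Subgroup G) : Set G)) ⧸ (P : Subgroup G).subgroupOf _) = e := by
  haveI : IsCyclic (P : Subgroup G) := isCyclic_of_prime_card hP
  have hself : centralizer ((P : Subgroup G) : Set G) = P :=
    (eq_of_le_of_card_ge (le_centralizer _) (by rw [hC, hP])).symm
  have hker : ((P : Subgroup G).normalizerMonoidHom).ker =
      (P : Subgroup G).subgroupOf (normalizer ((P : Subgroup G) : Set G)) := by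
    rw [normalizerMonoidHom_ker, hself]
  haveI hn : ((P : Subgroup G).subgroupOf (normalizer ((P : Subgroup G) : Set G))).Normal :=
    hker ▸ MonoidHom.normal_ker _
  refine ⟨hself, hn, ?_, ?_⟩
  · haveI : IsCyclic (MulAut (P : Subgroup G)) := isCyclic_mulAut hP
    exact ((QuotientGroup.quotientMulEquivOfEq hker.symm).trans
      (QuotientGroup.quotientKerEquivRange _)).isCyclic.2 inferInstance
  · have h := card_eq_card_quotient_mul_card_subgroup
      ((P : Subgroup G).subgroupOf (normalizer ((P : Subgroup G) : Set G)))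
    rw [hN, Nat.card_congr (subgroupOfEquivOfLe (le_normalizer (H := (P : Subgroup G)))).toEquiv, hP,
      mul_comm] at h
    exact (Nat.eq_of_mul_eq_mul_right (Fact.out : p.Prime).pos h).symm

end Cfsg.Agent.Lib.J3Loc.Sylow
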