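import Cfsg.Prelude.Def_Transfer
import Cfsg.Agent.Solvable.Basics
import Cfsg.Agent.Lib.J3Loc.Sylow

/-!
# The Sylow subgroups of orders 19 and 17 in a group of the type of the third Janko group

Everything here follows from the structure of an involution centraliser and from the group order.
-/

set_option autoImplicit false
set_option linter.style.haveILetI false
set_option linter.unusedSectionVars false

namespace Cfsg.Agent.Lib.J3Loc.Sylow

open Subgroup

universe u

theorem alt_five_pow_four : ∀ q : alternatingGroup (Fin 5), q ^ 4 = 1 → q ^ 2 = 1 := by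
  decide +kernel

/-- An extension of an extraspecial 2-group by the alternating group of degree 5 has no element of
order 16. -/
theorem orderOf_ne_sixteen {C : Type*} [Group C] [Finite C] (E : Subgroup C) [E.Normal]
    (hE : Cfsg.IsExtraspecial 2 E) (e : C ⧸ E ≃* alternatingGroup (Fin 5)) (c : C) :
    orderOf c ≠ 16 := by
  intro hc
  haveI : Fact (Nat.Prime 2) := ⟨Nat.prime_two⟩
  have h16 : (e (c : C ⧸ E)) ^ 16 = 1 := by
    rw [← map_pow, ← QuotientGroup.mk_pow, ← hc, pow_orderOf_eq_one, QuotientGroup.mk_one, map_one]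
  have h60 : (e (c : C ⧸ E)) ^ 60 = 1 := by
    have h : Nat.card (alternatingGroup (Fin 5)) = 60 := by
      rw [nat_card_alternatingGroup, Nat.card_fin]; decide
    rw [← h]
    exact pow_card_eq_one'
  have h4 : (e (c : C ⧸ E)) ^ 4 = 1 := by
    have := (pow_gcd_eq_one (m := 16) (n := 60) (a := e (c : C ⧸ E))).2 ⟨h16, h60⟩
    simpa using this
  have h2 := alt_five_pow_four _ h4
  rw [← map_pow, MulEquiv.map_eq_one_iff, ← QuotientGroup.mk_pow, QuotientGroup.eq_one_iff] at h2
  set x : E := ⟨c ^ 2, h2⟩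
  have hz : x ^ 2 ∈ Subgroup.center E := by
    rw [← hE.1.2.1]
    exact Cfsg.Agent.Solvable.Basics.pow_mem_frattini hE.1.1 _
  have hp := pow_card_eq_one' (x := (⟨x ^ 2, hz⟩ : Subgroup.center E))
  rw [hE.2] at hp
  have h8 : c ^ 8 = 1 := by
    have := congrArg (fun y : Subgroup.center E => ((y : E) : C)) hp
    simpa [x, ← pow_mul] using this
  have := orderOf_dvd_of_pow_eq_one h8
  rw [hc] at this
  omega

/-- The two conclusions, given the order of the group. -/
theorem sylow_data {G : Type u} [Group G] [Finite G] [IsSimpleGroup G]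
    (hcard : Nat.card G = 50232960)
    (hone : ∀ x y : G, orderOf x = 2 → orderOf y = 2 → IsConj x y)
    (t : G) (ht : orderOf t = 2) (E A : Subgroup ↥(Subgroup.centralizer ({t} : Set G))) [E.Normal]
    (hE : Cfsg.IsExtraspecial 2 ↥E) (hE32 : Nat.card ↥E = 32) (hEA : E.IsComplement' A)
    (eA : ↥A ≃* ↥(alternatingGroup (Fin 5))) :
    (∀ X : Sylow 19 G, Subgroup.centralizer ((X : Subgroup G) : Set G) = X ∧
        ∃ h : ((X : Subgroup G).subgroupOf (Subgroup.normalizer ((X : Subgroup G) : Set G))).Normal,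
          IsCyclic (↥(Subgroup.normalizer ((X : Subgroup G) : Set G)) ⧸ (X : Subgroup G).subgroupOf _) ∧
          Nat.card (↥(Subgroup.normalizer ((X : Subgroup G) : Set G)) ⧸ (X : Subgroup G).subgroupOf _) = 9) ∧
    (∀ Y : Sylow 17 G, Subgroup.centralizer ((Y : Subgroup G) : Set G) = Y ∧
        ∃ h : ((Y : Subgroup G).subgroupOf (Subgroup.normalizer ((Y : Subgroup G) : Set G))).Normal,
          IsCyclic (↥(Subgroup.normalizer ((Y : Subgroup G) : Set G)) ⧸ (Y : Subgroup G).subgroupOf _) ∧
          Nat.card (↥(Subgroup.normalizer ((Y : Subgroup G) : Set G)) ⧸ (Y : Subgroup G).subgroupOf _) = 8) := by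
  have hA : Nat.card A = 60 := by
    rw [Nat.card_congr eA.toEquiv, nat_card_alternatingGroup, Nat.card_fin]; decide
  have hCt : Nat.card (centralizer ({t} : Set G)) = 1920 := by
    rw [← hEA.card_mul_card, hE32, hA]
  have hmem : ∀ (a z : G), a * z * a⁻¹ = t → ∀ g : G, g * z = z * g →
      a * g * a⁻¹ ∈ centralizer ({t} : Set G) := fun a z hz g hg => by
    rw [mem_centralizer_singleton_iff, ← hz]
    calc a * g * a⁻¹ * (a * z * a⁻¹) = a * (g * z) * a⁻¹ := by group
      _ = a * (z * g) * a⁻¹ := by rw [hg]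
      _ = _ := by group
  have hcen : ∀ z : G, orderOf z = 2 → Nat.card (centralizer ({z} : Set G)) = 1920 := fun z hz => by
    obtain ⟨a, ha⟩ := isConj_iff.1 (hone z t hz ht)
    rw [← hCt]
    refine Nat.card_congr ((MulAut.conj a).toEquiv.subtypeEquiv fun g => ?_)
    simp only [MulEquiv.toEquiv_eq_coe, EquivLike.coe_coe, MulAut.conj_apply]
    refine ⟨fun hg => hmem a z ha g (mem_centralizer_singleton_iff.1 hg), fun hg => ?_⟩
    rw [mem_centralizer_singleton_iff, ← ha] at hg
    rw [mem_centralizer_singleton_iff]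
    have := congrArg (fun y => a⁻¹ * y * a) hg
    simpa [mul_assoc] using this
  have hexp : ∀ g : G, orderOf g ≠ 16 := fun g hg => by
    have hz : orderOf (g ^ 8) = 2 := by
      rw [orderOf_pow_of_dvd (by norm_num) (by rw [hg]; norm_num), hg]
    obtain ⟨a, ha⟩ := isConj_iff.1 (hone _ _ hz ht)
    refine orderOf_ne_sixteen E hE ((hEA.symm.QuotientMulEquiv).trans eA)
      ⟨a * g * a⁻¹, hmem a _ ha g (Commute.self_pow g 8).eq⟩ ?_
    rw [Subgroup.orderOf_mk, ← hg]
    exact MulEquiv.orderOf_eq (MulAut.conj a) g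
  haveI : Fact (Nat.Prime 19) := ⟨by norm_num⟩
  haveI : Fact (Nat.Prime 17) := ⟨by norm_num⟩
  refine ⟨fun X => ?_, fun Y => ?_⟩
  · obtain ⟨h1, h2⟩ := centralizer_nineteen hcard hcen X
    exact quotient_data hcard hcen X (card_sylow hcard (Or.inl rfl) X) h1 h2
  · obtain ⟨h1, h2⟩ := centralizer_seventeen hcard hcen hexp Y
    exact quotient_data hcard hcen Y (card_sylow hcard (Or.inr rfl) Y) h1 h2

end Cfsg.Agent.Lib.J3Loc.Sylow
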